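import Mathlib
import Cfsg.Agent.Lib.Helper75.BrauerHalfE

set_option autoImplicit false
set_option linter.unusedSectionVars false

/-!
# S4504 module [A-EQ], part 1 (helper75): the ingredients of the equality case of Brauer's main lemma

Versions with `2 χ(1) + 1 ≤ p` of `const_of_xtype` (helper92), `dval` (helper75), a strengthened
`Lf_mul_conj` (helper78) and the arithmetic of the equality case.
-/

namespace Cfsg.Agent.Lib.Helper75.S4504

open Cfsg Cfsg.Agent.Lib.Helper78 Cfsg.Agent.Lib.Helper16 Cfsg.Agent.Lib.Helper3.DefOneGen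
  Cfsg.Agent.Lib.Helper75.McKayOne Cfsg.Agent.Lib.Helper75.BHMods
  Cfsg.Agent.Lib.Helper75.BrauerHalf
open scoped ComplexConjugate IsMulCommutative

universe u

section Parts

variable {G : Type u} [Group G] [Fintype G] {p : ℕ} [hp : Fact p.Prime] (P : Sylow p G)
  (hP : Nat.card P = p)
variable [Fintype ↥(Subgroup.centralizer ((P : Subgroup G) : Set G))] [Fintype ↥(P : Subgroup G)]
  [IsMulCommutative ↥(P : Subgroup G)] [Fintype (↥(P : Subgroup G) →* ℂˣ)]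
  [Fintype ↥(Subgroup.normalizer ((P : Subgroup G) : Set G))]
variable {M : Ideal AlgInt}

local notation "CP" => Subgroup.centralizer ((P : Subgroup G) : Set G)
local notation "NP" => Subgroup.normalizer ((P : Subgroup G) : Set G)

attribute [local instance] nAct

include hP in
open scoped Classical in
/-- `const_of_xtype` of helper92 under the weaker hypothesis `2 Ξ(1) + 1 ≤ p`. -/
theorem const_of_xtype_le {Ξ : G → ℂ} (hΞ : IsCharacter G Ξ) (hdeg : 2 * charDegree Ξ + 1 ≤ p)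
    (θ : IrrCharacter ↥CP) (hθ : θ ∈ Theta P) (a : ℤ) (ha : a = 1 ∨ a = -1)
    (hfp : ∀ θ' ∈ Theta P, ∀ y : ↥(P : Subgroup G), y ≠ 1 →
      fpart p CP Ξ (θ' : ↥CP → ℂ) (y : G) =
        if θ' ∈ MulAction.orbit ↥NP θ then (a : ℂ) else 0) :
    ∀ y : G, y ∈ (P : Subgroup G) → Ξ y = Ξ 1 := by
  have hcf : IsClassFunction G Ξ := IsCharacter.isClassFunction hΞ
  have hp2 : 2 ≤ p := hp.out.two_le
  -- `gq` on `Theta`
  have hgq : ∀ θ' ∈ Theta P, gq P Ξ (θ' : ↥CP → ℂ) =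
      if θ' ∈ MulAction.orbit ↥NP θ then ((p : ℂ) - 1) * (a : ℂ) else 0 := by
    intro θ' hθ'
    unfold gq
    rw [Finset.sum_congr rfl (fun y hy => hfp θ' hθ' y (Finset.mem_filter.mp hy).2)]
    rw [Finset.sum_const, Cfsg.Agent.Lib.Helper92.BrauerHalf.card_filter_ne_one P hP]
    split_ifs
    · rw [nsmul_eq_mul, Nat.cast_sub (by omega), Nat.cast_one]
    · simp
  -- integer form: `D = p u - (p-1) a [orbit]`
  have hD : ∀ θ' ∈ Theta P, (Dn P Ξ (θ' : ↥CP → ℂ) : ℤ) =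
      (p : ℤ) * (un P Ξ (θ' : ↥CP → ℂ) : ℤ) -
        (if θ' ∈ MulAction.orbit ↥NP θ then ((p : ℤ) - 1) * a else 0) := by
    intro θ' hθ'
    have h1 := un_spec P hP hΞ θ' hθ'
    rw [hgq θ' hθ'] at h1
    have h2 : ((Dn P Ξ (θ' : ↥CP → ℂ) : ℤ) : ℂ) =
        (((p : ℤ) * (un P Ξ (θ' : ↥CP → ℂ) : ℤ) -
          (if θ' ∈ MulAction.orbit ↥NP θ then ((p : ℤ) - 1) * a else 0) : ℤ) : ℂ) := by
      split_ifs at h1 ⊢
      · push_cast
        linear_combination h1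
      · push_cast
        linear_combination h1
    exact_mod_cast h2
  -- degrees: `D_θ'' ≤ Ξ(1)` for all `θ''`
  have hone := Cfsg.Agent.Lib.Helper92.BrauerHalf.apply_eq_sum_Theta P hP hcf
    (1 : ↥(P : Subgroup G))
  rw [OneMemClass.coe_one] at hone
  have hDle : ∀ θ' ∈ Theta P, Dn P Ξ (θ' : ↥CP → ℂ) ≤ charDegree Ξ :=
    fun θ' hθ' => Dn_le_charDegree P hP hΞ θ' hθ'
  have hpz : (2 : ℤ) ≤ (p : ℤ) := by exact_mod_cast hp2
  have h7 : (2 * (charDegree Ξ : ℤ) + 1 ≤ (p : ℤ)) := by exact_mod_cast hdeg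
  -- first `a = 1`
  have ha1 : a = 1 := by
    rcases ha with h | h
    · exact h
    · exfalso
      have h1 := hD θ hθ
      rw [if_pos (MulAction.mem_orbit_self θ), h] at h1
      have h2 := hDle θ hθ
      have h3 : (0 : ℤ) ≤ (un P Ξ (θ : ↥CP → ℂ) : ℤ) := Int.natCast_nonneg _
      have h4 : (0 : ℤ) ≤ (p : ℤ) * (un P Ξ (θ : ↥CP → ℂ) : ℤ) :=
        mul_nonneg (Int.natCast_nonneg _) h3
      have h5 : ((p : ℤ) - 1) ≤ (Dn P Ξ (θ : ↥CP → ℂ) : ℤ) := by rw [h1]; linarith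
      have h6 : (Dn P Ξ (θ : ↥CP → ℂ) : ℤ) ≤ (charDegree Ξ : ℤ) := by exact_mod_cast h2
      linarith
  -- the value of `D`
  have hDval : ∀ θ' ∈ Theta P, (Dn P Ξ (θ' : ↥CP → ℂ) : ℤ) =
      if θ' ∈ MulAction.orbit ↥NP θ then 1 else 0 := by
    intro θ' hθ'
    have h1 := hD θ' hθ'
    have h2 : (Dn P Ξ (θ' : ↥CP → ℂ) : ℤ) ≤ (charDegree Ξ : ℤ) := by exact_mod_cast hDle θ' hθ'
    have hule : (un P Ξ (θ' : ↥CP → ℂ) : ℤ) ≤ (Dn P Ξ (θ' : ↥CP → ℂ) : ℤ) := by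
      exact_mod_cast un_le_Dn P hP hΞ θ' hθ'
    have hu0 : (0 : ℤ) ≤ (un P Ξ (θ' : ↥CP → ℂ) : ℤ) := Int.natCast_nonneg _
    rw [ha1] at h1
    split_ifs at h1 ⊢ with horb
    · -- `D = p u - (p - 1)`, `u ≤ D`, `D < p`
      have hu1 : (1 : ℤ) ≤ (un P Ξ (θ' : ↥CP → ℂ) : ℤ) := by
        by_contra hcon
        have : (un P Ξ (θ' : ↥CP → ℂ) : ℤ) = 0 := by omega
        rw [this] at h1 hule
        nlinarith
      have hu2 : (un P Ξ (θ' : ↥CP → ℂ) : ℤ) ≤ 1 := by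
        by_contra hcon
        have : (2 : ℤ) ≤ (un P Ξ (θ' : ↥CP → ℂ) : ℤ) := by omega
        nlinarith
      have : (un P Ξ (θ' : ↥CP → ℂ) : ℤ) = 1 := le_antisymm hu2 hu1
      rw [h1, this]; ring
    · -- `D = p u < p`
      have hu2 : (un P Ξ (θ' : ↥CP → ℂ) : ℤ) ≤ 0 := by
        by_contra hcon
        have : (1 : ℤ) ≤ (un P Ξ (θ' : ↥CP → ℂ) : ℤ) := by omega
        nlinarith
      have : (un P Ξ (θ' : ↥CP → ℂ) : ℤ) = 0 := le_antisymm hu2 hu0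
      rw [h1, this]; ring
  -- all parts are constant on `P`
  have hconst : ∀ θ' ∈ Theta P, ∀ y : ↥(P : Subgroup G),
      fpart p CP Ξ (θ' : ↥CP → ℂ) (y : G) = fpart p CP Ξ (θ' : ↥CP → ℂ) 1 := by
    intro θ' hθ' y
    by_cases hy : y = 1
    · rw [hy, OneMemClass.coe_one]
    · rw [hfp θ' hθ' y hy, Dn_spec P hP hΞ θ' hθ']
      have h0 := hDval θ' hθ'
      have h0' : (Dn P Ξ (θ' : ↥CP → ℂ) : ℂ) = if θ' ∈ MulAction.orbit ↥NP θ then 1 else 0 := by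
        have : ((Dn P Ξ (θ' : ↥CP → ℂ) : ℤ) : ℂ) =
            ((if θ' ∈ MulAction.orbit ↥NP θ then 1 else 0 : ℤ) : ℂ) := by rw [h0]
        split_ifs at this ⊢
        · simpa using this
        · simpa using this
      rw [h0', ha1]
      simp
  intro y hy
  have h1 := Cfsg.Agent.Lib.Helper92.BrauerHalf.apply_eq_sum_Theta P hP hcf
    (⟨y, hy⟩ : ↥(P : Subgroup G))
  rw [show ((⟨y, hy⟩ : ↥(P : Subgroup G)) : G) = y from rfl] at h1
  rw [h1, hone]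
  apply Finset.sum_congr rfl
  intro θ' hθ'
  rw [hconst θ' hθ' ⟨y, hy⟩]

include hP in
open scoped Classical in
/-- `dval` of helper75 under the weaker hypothesis `2 χ(1) + 1 ≤ p`. -/
theorem dval_le (hM : IsPModular p M) (θ : IrrCharacter ↥CP) (hθ : θ ∈ Theta P)
    {B : Set (IrrCharacter G)} (hind : IsInducedBlock M CP (blockOf M (θ : ↥CP → ℂ)) B)
    (he : 2 * (CP).relIndex (thetaStab P θ) ≤ p - 1)
    (δ : ℤ) (hδ : δ = 1 ∨ δ = -1) (Y : Finset (IrrCharacter G))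
    (ζ : (↥(P : Subgroup G) →* ℂˣ) → IrrCharacter G)
    (hYB : ∀ η ∈ Y, η ∈ B)
    (hYsurj : ∀ η ∈ Y, ∃ ψ : ↥(P : Subgroup G) →* ℂˣ, ψ ≠ 1 ∧ ζ ψ = η)
    (hiff : ∀ ψ ψ' : ↥(P : Subgroup G) →* ℂˣ, ψ ≠ 1 → ψ' ≠ 1 →
      (ζ ψ = ζ ψ' ↔ ∃ n : G, n ∈ thetaStab P θ ∧
        ∀ w w' : ↥(P : Subgroup G), (w' : G) = n * (w : G) * n⁻¹ → ψ' w' = ψ w))
    (hform : ∀ ψ : ↥(P : Subgroup G) →* ℂˣ, ψ ≠ 1 → ∀ y : ↥(P : Subgroup G), y ≠ 1 →
      fpart p CP (ζ ψ : G → ℂ) (θ : ↥CP → ℂ) (y : G) = (δ : ℂ) *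
        ∑ᶠ ψ' ∈ {ψ' : ↥(P : Subgroup G) →* ℂˣ | ∃ n : G, n ∈ thetaStab P θ ∧
          ∀ w w' : ↥(P : Subgroup G), (w' : G) = n * (w : G) * n⁻¹ → ψ' w' = ψ w},
          ((ψ' y : ℂˣ) : ℂ))
    (hdegY : ∀ η ∈ Y, ∀ η' ∈ Y, (η : G → ℂ) 1 = (η' : G → ℂ) 1)
    (χ : IrrCharacter G) (hχ : χ ∈ Y) (hdeg : 2 * charDegree (χ : G → ℂ) + 1 ≤ p) :
    δ = 1 ∧ ∀ η ∈ Y, ∀ θ' ∈ Theta P, Dn P (η : G → ℂ) (θ' : ↥CP → ℂ) =
      if θ' ∈ MulAction.orbit ↥NP θ then (CP).relIndex (thetaStab P θ) else 0 := by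
  have hpp : p.Prime := hp.out
  have hp1 := hpp.one_lt
  have hepos : 0 < (CP).relIndex (thetaStab P θ) := by
    apply Nat.pos_of_ne_zero
    unfold Subgroup.relIndex
    exact Subgroup.index_ne_zero_of_finite
  -- degrees
  have hdegη : ∀ η ∈ Y, charDegree (η : G → ℂ) = charDegree (χ : G → ℂ) := by
    intro η hη
    unfold charDegree
    rw [hdegY η hη χ hχ]
  -- the basic relation at `θ`
  have hrel : ∀ η ∈ Y, (Dn P (η : G → ℂ) (θ : ↥CP → ℂ) : ℤ) =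
      (p : ℤ) * (un P (η : G → ℂ) (θ : ↥CP → ℂ) : ℤ) +
        δ * ((CP).relIndex (thetaStab P θ) : ℤ) := by
    intro η hη
    obtain ⟨ψ, hψ, hζψ⟩ := hYsurj η hη
    have hg := gq_exc P hP θ ψ hψ (ζ ψ : G → ℂ) (δ : ℂ) (hform ψ hψ)
    rw [hζψ, un_spec P hP (IsIrrCharacter.isCharacter η.2) θ hθ] at hg
    have h1 : ((Dn P (η : G → ℂ) (θ : ↥CP → ℂ) : ℤ) : ℂ) =
        (((p : ℤ) * (un P (η : G → ℂ) (θ : ↥CP → ℂ) : ℤ) +
          δ * ((CP).relIndex (thetaStab P θ) : ℤ) : ℤ) : ℂ) := by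
      push_cast
      linear_combination -hg
    exact_mod_cast h1
  have hDle : ∀ η ∈ Y, ∀ θ' ∈ Theta P,
      Dn P (η : G → ℂ) (θ' : ↥CP → ℂ) ≤ charDegree (χ : G → ℂ) := by
    intro η hη θ' hθ'
    rw [← hdegη η hη]
    exact Dn_le_charDegree P hP (IsIrrCharacter.isCharacter η.2) θ' hθ'
  -- the sign
  have hδ1 : δ = 1 := by
    rcases hδ with h | h
    · exact h
    · exfalso
      have h1 := hrel χ hχ
      rw [h] at h1
      have h2 := un_le_Dn P hP (IsIrrCharacter.isCharacter χ.2) θ hθ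
      have h3 := hDle χ hχ θ hθ
      have h2' : (un P (χ : G → ℂ) (θ : ↥CP → ℂ) : ℤ) ≤ (Dn P (χ : G → ℂ) (θ : ↥CP → ℂ) : ℤ) := by
        exact_mod_cast h2
      have h3' : (Dn P (χ : G → ℂ) (θ : ↥CP → ℂ) : ℤ) ≤ (charDegree (χ : G → ℂ) : ℤ) := by
        exact_mod_cast h3
      have he' : (2 * ((CP).relIndex (thetaStab P θ) : ℤ)) ≤ (p : ℤ) - 1 := by
        have : ((2 * (CP).relIndex (thetaStab P θ) : ℕ) : ℤ) ≤ ((p - 1 : ℕ) : ℤ) := by
          exact_mod_cast he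
        rw [Nat.cast_pred hpp.pos] at this
        push_cast at this
        exact this
      have hdeg' : 2 * (charDegree (χ : G → ℂ) : ℤ) + 1 ≤ (p : ℤ) := by exact_mod_cast hdeg
      have hepos' : (0 : ℤ) < ((CP).relIndex (thetaStab P θ) : ℤ) := by exact_mod_cast hepos
      have hp' : (2 : ℤ) ≤ (p : ℤ) := by exact_mod_cast hpp.two_le
      -- u ≥ 1
      have hu : (1 : ℤ) ≤ (un P (χ : G → ℂ) (θ : ↥CP → ℂ) : ℤ) := by
        by_contra hc
        have hu0 : (un P (χ : G → ℂ) (θ : ↥CP → ℂ) : ℤ) = 0 := by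
          have : (0 : ℤ) ≤ (un P (χ : G → ℂ) (θ : ↥CP → ℂ) : ℤ) := Nat.cast_nonneg _
          omega
        rw [hu0] at h1 h2'
        linarith
      nlinarith
  refine ⟨hδ1, ?_⟩
  intro η hη θ' hθ'
  have hηc : IsCharacter G (η : G → ℂ) := IsIrrCharacter.isCharacter η.2
  have hdeg' : 2 * (charDegree (χ : G → ℂ) : ℤ) + 1 ≤ (p : ℤ) := by exact_mod_cast hdeg
  have hp' : (2 : ℤ) ≤ (p : ℤ) := by exact_mod_cast hpp.two_le
  by_cases horb : θ' ∈ MulAction.orbit ↥NP θ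
  · rw [if_pos horb]
    obtain ⟨n, hn, rfl⟩ := (mem_orbit_iff P θ θ').mp horb
    rw [Dn_thetaConj P (IsCharacter.isClassFunction hηc) n hn θ]
    have h1 := hrel η hη
    rw [hδ1, one_mul] at h1
    have h3 := hDle η hη θ hθ
    have h3' : (Dn P (η : G → ℂ) (θ : ↥CP → ℂ) : ℤ) ≤ (charDegree (χ : G → ℂ) : ℤ) := by
      exact_mod_cast h3
    have hu0 : (un P (η : G → ℂ) (θ : ↥CP → ℂ) : ℤ) = 0 := by
      by_contra hc
      have : (1 : ℤ) ≤ (un P (η : G → ℂ) (θ : ↥CP → ℂ) : ℤ) := by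
        have : (0 : ℤ) ≤ (un P (η : G → ℂ) (θ : ↥CP → ℂ) : ℤ) := Nat.cast_nonneg _
        omega
      have hepos' : (0 : ℤ) < ((CP).relIndex (thetaStab P θ) : ℤ) := by exact_mod_cast hepos
      nlinarith
    rw [hu0, mul_zero, zero_add] at h1
    exact_mod_cast h1
  · rw [if_neg horb]
    have hg := gq_of_root P hP hM θ hθ hind (hYB η hη) θ' hθ'
    rw [if_neg horb, un_spec P hP hηc θ' hθ'] at hg
    have h1 : ((Dn P (η : G → ℂ) (θ' : ↥CP → ℂ) : ℤ) : ℂ) =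
        (((p : ℤ) * (un P (η : G → ℂ) (θ' : ↥CP → ℂ) : ℤ) : ℤ) : ℂ) := by
      push_cast
      linear_combination -hg
    have h1' : (Dn P (η : G → ℂ) (θ' : ↥CP → ℂ) : ℤ) =
        (p : ℤ) * (un P (η : G → ℂ) (θ' : ↥CP → ℂ) : ℤ) := by exact_mod_cast h1
    have h3 := hDle η hη θ' hθ'
    have h3' : (Dn P (η : G → ℂ) (θ' : ↥CP → ℂ) : ℤ) ≤ (charDegree (χ : G → ℂ) : ℤ) := by
      exact_mod_cast h3
    have hu0 : (un P (η : G → ℂ) (θ' : ↥CP → ℂ) : ℤ) = 0 := by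
      by_contra hc
      have : (1 : ℤ) ≤ (un P (η : G → ℂ) (θ' : ↥CP → ℂ) : ℤ) := by
        have : (0 : ℤ) ≤ (un P (η : G → ℂ) (θ' : ↥CP → ℂ) : ℤ) := Nat.cast_nonneg _
        omega
      nlinarith
    rw [hu0, mul_zero] at h1'
    exact_mod_cast h1'

include hP in
open scoped Classical in
/-- **[BH-GAMMA]**, strengthened: `w ≤ |N : C| · k` forces a single linear root. -/
theorem Lf_mul_conj_strong (θ : IrrCharacter ↥CP) (hθ : θ ∈ Theta P) {F : G → ℂ}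
    (hF : IsClassFunction G F) (E : ↥(P : Subgroup G) → ℂ)
    (hfp : ∀ θ' ∈ Theta P, ∀ y : ↥(P : Subgroup G),
      fpart p CP F (θ' : ↥CP → ℂ) (y : G) =
        if θ' ∈ MulAction.orbit ↥NP θ then E y else 0) :
    ∃ w : ℕ,
      (CP).relIndex NP * ((Theta P).filter (fun θ' => θ' ∈ MulAction.orbit ↥NP θ)).card ≤ w ∧
      (w ≤ (CP).relIndex NP * ((Theta P).filter (fun θ' => θ' ∈ MulAction.orbit ↥NP θ)).card →
        ((Theta P).filter (fun θ' => θ' ∈ MulAction.orbit ↥NP θ)).card = 1 ∧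
          (θ : ↥CP → ℂ) 1 = 1) ∧
      Lf P (fun g => F g * conj (F g)) = (w : ℂ) *
        (((p : ℂ) - 1) * (E 1 * conj (E 1)) - ((p : ℂ) + 1) *
          ∑ y ∈ Finset.univ.filter (fun y : ↥(P : Subgroup G) => y ≠ 1), E y * conj (E y)) := by
  obtain ⟨Orb, hOrb⟩ : ∃ Orb : Finset (IrrCharacter ↥CP),
      Orb = (Theta P).filter (fun θ' => θ' ∈ MulAction.orbit ↥NP θ) := ⟨_, rfl⟩
  obtain ⟨ϑ, hϑ⟩ : ∃ ϑ : ↥CP → ℂ, ϑ = ∑ θ' ∈ Orb, (θ' : ↥CP → ℂ) := ⟨_, rfl⟩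
  have hOrbT : ∀ θ' ∈ Orb, θ' ∈ Theta P := by
    intro θ' h
    rw [hOrb] at h
    exact (Finset.mem_filter.mp h).1
  have hθOrb : θ ∈ Orb := by
    rw [hOrb]
    exact Finset.mem_filter.mpr ⟨hθ, MulAction.mem_orbit_self θ⟩
  have hϑK : InKer (Subgroup.inclusion (le_centralizer_of_card_prime hP)) ϑ := by
    intro a k
    rw [hϑ, Finset.sum_apply, Finset.sum_apply]
    apply Finset.sum_congr rfl
    intro θ' hθ'
    exact (mem_Theta_iff_inKer P hP θ').mp (hOrbT θ' hθ') a k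
  have hϑchar : IsCharacter ↥CP ϑ := by
    rw [hϑ]
    exact Cfsg.Agent.Lib.Helper80.isCharacter_sum _ _
      (fun θ' _ => IsIrrCharacter.isCharacter θ'.2)
  have hfchar : IsCharacter ↥CP (fun c : ↥CP => ϑ c * conj (ϑ c)) :=
    Cfsg.Agent.Lib.Helper80.isCharacter_mul hϑchar
      (Cfsg.Agent.Lib.Helper80.isCharacter_conj hϑchar)
  have hfK : InKer (Subgroup.inclusion (le_centralizer_of_card_prime hP))
      (fun c : ↥CP => ϑ c * conj (ϑ c)) := by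
    intro a k
    show ϑ _ * conj (ϑ _) = _
    rw [hϑK a k]
  have hFy : ∀ (y : ↥(P : Subgroup G)) (s : ↥CP), ¬ p ∣ orderOf s →
      F ((y : G) * (s : G)) = E y * ϑ s := by
    intro y s hs
    have h := Cfsg.Agent.Lib.Helper78.BrauerHalfGamma.apply_mul_eq_of_orbit P hP θ hF E hfp y s hs
    rwa [← hOrb, ← hϑ] at h
  choose n hn using fun θ'' : IrrCharacter ↥CP =>
    IsCharacter.exists_nat_classInner hfchar θ''
  have hfpart : ∀ θ'' ∈ Theta P, ∀ y : ↥(P : Subgroup G),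
      fpart p CP (fun g => F g * conj (F g)) (θ'' : ↥CP → ℂ) (y : G) =
        E y * conj (E y) * (n θ'' : ℂ) := by
    intro θ'' hθ'' y
    rw [Cfsg.Agent.Lib.Helper78.BrauerHalfGamma.fpart_mul_conj_of_apply P hP E hϑK hFy θ'' hθ'' y,
      hn θ'']
  -- the trivial character
  have hn1 : n (Cfsg.Agent.Lib.Helper78.BrauerHalfGamma.trivTheta P) = Orb.card := by
    have h1 : classInner (fun c : ↥CP => ϑ c * conj (ϑ c))
        (Cfsg.Agent.Lib.Helper78.BrauerHalfGamma.trivTheta P : ↥CP → ℂ) =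
        classInner ϑ ϑ := by
      unfold classInner
      congr 1
      apply Finset.sum_congr rfl
      intro c _
      show ϑ c * conj (ϑ c) * conj (1 : ℂ) = _
      rw [map_one, mul_one]
    have h2 := hn (Cfsg.Agent.Lib.Helper78.BrauerHalfGamma.trivTheta P)
    rw [h1, hϑ, Cfsg.Agent.Lib.Helper78.BrauerHalfGamma.classInner_sum_irr_self] at h2
    exact_mod_cast h2.symm
  refine ⟨∑ θ'' ∈ Theta P, (CP).relIndex (thetaStab P θ'') * n θ'', ?_, ?_, ?_⟩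
  · rw [← hOrb, ← hn1, ← Cfsg.Agent.Lib.Helper78.BrauerHalfGamma.thetaStab_trivTheta P]
    exact Finset.single_le_sum (f := fun θ'' => (CP).relIndex (thetaStab P θ'') * n θ'')
      (fun _ _ => Nat.zero_le _) (Cfsg.Agent.Lib.Helper78.BrauerHalfGamma.trivTheta_mem P)
  · rw [← hOrb]
    intro hw
    have htm := Cfsg.Agent.Lib.Helper78.BrauerHalfGamma.trivTheta_mem P
    have hcpos : 0 < Orb.card := Finset.card_pos.mpr ⟨θ, hθOrb⟩
    have hn0 : ∀ θ'' ∈ Theta P, θ'' ≠ Cfsg.Agent.Lib.Helper78.BrauerHalfGamma.trivTheta P →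
        n θ'' = 0 := by
      intro θ'' hθ'' hne
      have h1 := Finset.add_sum_erase (Theta P)
        (fun θ'' => (CP).relIndex (thetaStab P θ'') * n θ'') htm
      have h2 : (CP).relIndex (thetaStab P θ'') * n θ'' ≤
          ∑ x ∈ (Theta P).erase (Cfsg.Agent.Lib.Helper78.BrauerHalfGamma.trivTheta P),
            (CP).relIndex (thetaStab P x) * n x :=
        Finset.single_le_sum (f := fun θ'' => (CP).relIndex (thetaStab P θ'') * n θ'')
          (fun _ _ => Nat.zero_le _) (Finset.mem_erase.mpr ⟨hne, hθ''⟩)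
      have h3 : (CP).relIndex (thetaStab P (Cfsg.Agent.Lib.Helper78.BrauerHalfGamma.trivTheta P)) *
          n (Cfsg.Agent.Lib.Helper78.BrauerHalfGamma.trivTheta P) = (CP).relIndex NP * Orb.card := by
        rw [hn1, Cfsg.Agent.Lib.Helper78.BrauerHalfGamma.thetaStab_trivTheta P]
      have h4 : (CP).relIndex (thetaStab P θ'') * n θ'' = 0 := by
        omega
      rcases Nat.mul_eq_zero.mp h4 with h5 | h5
      · exact absurd h5
          (Cfsg.Agent.Lib.Helper78.BrauerHalfGamma.relIndex_thetaStab_pos P θ'').ne'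
      · exact h5
    have hone := Cfsg.Agent.Lib.Helper78.BrauerHalfGamma.apply_one_eq_sum_Theta P hP
      (IsCharacter.isClassFunction hfchar) hfK
    rw [Finset.sum_eq_single (Cfsg.Agent.Lib.Helper78.BrauerHalfGamma.trivTheta P)] at hone
    · rw [hn (Cfsg.Agent.Lib.Helper78.BrauerHalfGamma.trivTheta P), hn1] at hone
      -- `ϑ 1` is the sum of the degrees
      have hϑ1 : ϑ 1 = ((∑ θ' ∈ Orb, charDegree (θ' : ↥CP → ℂ) : ℕ) : ℂ) := by
        rw [hϑ, Finset.sum_apply]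
        push_cast
        apply Finset.sum_congr rfl
        intro θ' _
        exact IsCharacter.apply_one_eq_charDegree (IsIrrCharacter.isCharacter θ'.2)
      have hcard_le : Orb.card ≤ ∑ θ' ∈ Orb, charDegree (θ' : ↥CP → ℂ) := by
        have h1 : ∑ θ' ∈ Orb, 1 ≤ ∑ θ' ∈ Orb, charDegree (θ' : ↥CP → ℂ) :=
          Finset.sum_le_sum (fun θ' _ => IsIrrCharacter.charDegree_pos θ'.2)
        simpa using h1
      have h6 : ϑ 1 * conj (ϑ 1) = (Orb.card : ℂ) := by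
        rw [hone]
        show ((Orb.card : ℕ) : ℂ) * (1 : ℂ) = _
        rw [mul_one]
      rw [hϑ1, Complex.conj_natCast] at h6
      have h7 : (∑ θ' ∈ Orb, charDegree (θ' : ↥CP → ℂ)) *
          (∑ θ' ∈ Orb, charDegree (θ' : ↥CP → ℂ)) = Orb.card := by
        exact_mod_cast h6
      have hd1 : ∑ θ' ∈ Orb, charDegree (θ' : ↥CP → ℂ) = 1 := by
        have hdpos : 0 < ∑ θ' ∈ Orb, charDegree (θ' : ↥CP → ℂ) := by omega
        nlinarith
      have hc1 : Orb.card = 1 := by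
        rw [← h7, hd1]
      refine ⟨hc1, ?_⟩
      have hOrbθ : Orb = {θ} := by
        obtain ⟨a, ha⟩ := Finset.card_eq_one.mp hc1
        rw [ha] at hθOrb ⊢
        rw [Finset.mem_singleton.mp hθOrb]
      rw [hOrbθ, Finset.sum_singleton] at hd1
      rw [IsCharacter.apply_one_eq_charDegree (IsIrrCharacter.isCharacter θ.2), hd1, Nat.cast_one]
    · intro θ'' hθ'' hne
      rw [hn θ'', hn0 θ'' hθ'' hne, Nat.cast_zero, zero_mul]
    · intro h
      exact absurd htm h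
  · unfold Lf gq
    push_cast
    rw [Finset.sum_mul]
    apply Finset.sum_congr rfl
    intro θ'' hθ''
    have h1 := hfpart θ'' hθ'' 1
    rw [OneMemClass.coe_one] at h1
    rw [h1, Finset.sum_congr rfl (fun y _ => hfpart θ'' hθ'' y), ← Finset.sum_mul]
    ring

end Parts

end Cfsg.Agent.Lib.Helper75.S4504
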