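import Mathlib
import Cfsg.Agent.Lib.Helper75.S4504.EqParts
import Cfsg.Agent.Lib.Helper75.BrauerHalfF
import Cfsg.Agent.Lib.Helper77.Linear
import Cfsg.Agent.Lib.Helper80.GalProd

set_option autoImplicit false
set_option linter.unusedSectionVars false

/-!
# S4504 module [A-EQ] (helper75): the equality case of Brauer's main lemma

If `|P| = p ≥ 5`, no nontrivial irreducible character of `G` has `P` in its kernel, and `χ` is a
faithful irreducible character with `2 χ(1) + 1 = p`, then `C_G(P) = P × Z(G)` and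
`|N_G(P) : C_G(P)| = (p - 1) / 2`.
-/

namespace Cfsg.Agent.Lib.Helper75.S4504

open Cfsg Cfsg.Agent.Lib.Helper78 Cfsg.Agent.Lib.Helper16 Cfsg.Agent.Lib.Helper3.DefOneGen
  Cfsg.Agent.Lib.Helper75.McKayOne Cfsg.Agent.Lib.Helper75.BHMods
  Cfsg.Agent.Lib.Helper75.BrauerHalf
open scoped ComplexConjugate IsMulCommutative

universe u

theorem arith_core_eq {p f e k s w : ℕ} (hf : 0 < f) (he : 0 < e) (hk : 0 < k)
    (hse : s * e = f) (hke : k * e = f) (hwge : f * k ≤ w) (h2f : 2 * f + 1 ≤ p)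
    (hineq : -((s : ℝ) * (p : ℝ) * ((p : ℝ) - 1) * (f : ℝ)) ≤
      (w : ℝ) * (((p : ℝ) - 1) * ((f : ℝ) * (f : ℝ)) -
        ((p : ℝ) + 1) * ((p : ℝ) * (f : ℝ) - (f : ℝ) * (f : ℝ)))) :
    (f = 1 ∧ w ≤ 1) ∨ (2 * f + 1 = p ∧ w ≤ f * k) := by
  have hsk : s = k := by
    apply Nat.eq_of_mul_eq_mul_right he
    rw [hse, hke]
  subst hsk
  have hpR : (0 : ℝ) < (p : ℝ) := by
    have : 0 < p := by omega
    exact_mod_cast this
  have hfR : (0 : ℝ) < (f : ℝ) := by exact_mod_cast hf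
  have hkR : (0 : ℝ) < (s : ℝ) := by exact_mod_cast hk
  have hwR : (f : ℝ) * (s : ℝ) ≤ (w : ℝ) := by exact_mod_cast hwge
  have hgap : (0 : ℝ) ≤ (p : ℝ) - 1 - 2 * (f : ℝ) := by
    have h' : ((2 * f + 1 : ℕ) : ℝ) ≤ (p : ℝ) := by exact_mod_cast h2f
    push_cast at h'
    linarith
  -- rewrite the bracket
  have hbr : ((p : ℝ) - 1) * ((f : ℝ) * (f : ℝ)) -
        ((p : ℝ) + 1) * ((p : ℝ) * (f : ℝ) - (f : ℝ) * (f : ℝ)) =
      -((p : ℝ) * (f : ℝ) * ((p : ℝ) + 1 - 2 * (f : ℝ))) := by ring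
  rw [hbr] at hineq
  -- divide by p f
  have h1 : (w : ℝ) * ((p : ℝ) + 1 - 2 * (f : ℝ)) ≤ (s : ℝ) * ((p : ℝ) - 1) := by
    have hpf : (0 : ℝ) < (p : ℝ) * (f : ℝ) := mul_pos hpR hfR
    have h2 : ((p : ℝ) * (f : ℝ)) * ((w : ℝ) * ((p : ℝ) + 1 - 2 * (f : ℝ))) ≤
        ((p : ℝ) * (f : ℝ)) * ((s : ℝ) * ((p : ℝ) - 1)) := by nlinarith
    exact le_of_mul_le_mul_left h2 hpf
  have hpos : (0 : ℝ) < (p : ℝ) + 1 - 2 * (f : ℝ) := by linarith
  have h3 : (f : ℝ) * (s : ℝ) * ((p : ℝ) + 1 - 2 * (f : ℝ)) ≤ (s : ℝ) * ((p : ℝ) - 1) :=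
    le_trans (mul_le_mul_of_nonneg_right hwR hpos.le) h1
  have h4 : (f : ℝ) * ((p : ℝ) + 1 - 2 * (f : ℝ)) ≤ (p : ℝ) - 1 := by
    have h5 : (s : ℝ) * ((f : ℝ) * ((p : ℝ) + 1 - 2 * (f : ℝ))) ≤ (s : ℝ) * ((p : ℝ) - 1) := by
      nlinarith
    exact le_of_mul_le_mul_left h5 hkR
  have h6 : ((f : ℝ) - 1) * ((p : ℝ) - 1 - 2 * (f : ℝ)) ≤ 0 := by nlinarith
  by_cases hf1 : f = 1
  · left
    refine ⟨hf1, ?_⟩
    subst hf1
    have hs1 : s = 1 := Nat.eq_one_of_mul_eq_one_right hke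
    subst hs1
    have hp1 : (0 : ℝ) < (p : ℝ) - 1 := by
      push_cast at hgap
      linarith
    have h8 : (w : ℝ) * ((p : ℝ) - 1) ≤ (p : ℝ) - 1 := by
      have := h1
      push_cast at this
      nlinarith
    have h9 : (w : ℝ) ≤ 1 := by
      by_contra hc
      push Not at hc
      nlinarith
    exact_mod_cast h9
  · right
    have hf2 : 2 ≤ f := by omega
    have hf2R : (2 : ℝ) ≤ (f : ℝ) := by exact_mod_cast hf2
    have hgap0 : (p : ℝ) - 1 - 2 * (f : ℝ) ≤ 0 := by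
      by_contra hc
      push Not at hc
      have h7 : (0 : ℝ) < ((f : ℝ) - 1) * ((p : ℝ) - 1 - 2 * (f : ℝ)) := by
        apply mul_pos <;> linarith
      linarith
    have hpe : (p : ℝ) = 2 * (f : ℝ) + 1 := by linarith
    have hpeN : 2 * f + 1 = p := by
      have : ((2 * f + 1 : ℕ) : ℝ) = (p : ℝ) := by
        push_cast
        linarith
      exact_mod_cast this
    refine ⟨hpeN, ?_⟩
    have h10 : (w : ℝ) ≤ (f : ℝ) * (s : ℝ) := by
      rw [hpe] at h1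
      nlinarith
    exact_mod_cast h10

section MainLemma

variable {G : Type u} [Group G] [Fintype G] {p : ℕ} [hp : Fact p.Prime] (P : Sylow p G)
  (hP : Nat.card P = p)
variable [Fintype ↥(Subgroup.centralizer ((P : Subgroup G) : Set G))] [Fintype ↥(P : Subgroup G)]
  [IsMulCommutative ↥(P : Subgroup G)] [Fintype (↥(P : Subgroup G) →* ℂˣ)]
  [Fintype ↥(Subgroup.normalizer ((P : Subgroup G) : Set G))]
variable {M : Ideal AlgInt}

local notation "CP" => Subgroup.centralizer ((P : Subgroup G) : Set G)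
local notation "NP" => Subgroup.normalizer ((P : Subgroup G) : Set G)

attribute [local instance] nAct

include hP in
open scoped Classical in
/-- **The equality case of the main lemma**, with all instances. -/
theorem main_lemma_eq_aux (hM : IsPModular p M) (hp5 : 5 ≤ p)
    (hH : ∀ Ξ : IrrCharacter G,
      (∀ y : G, y ∈ (P : Subgroup G) → (Ξ : G → ℂ) y = (Ξ : G → ℂ) 1) →
        ∀ g : G, (Ξ : G → ℂ) g = 1)
    (χ : IrrCharacter G) (hdeg : 2 * charDegree (χ : G → ℂ) + 1 = p)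
    (hfaith : ∀ g : G, (χ : G → ℂ) g = (χ : G → ℂ) 1 → g = 1) :
    (∀ c ∈ CP, ∃ y ∈ (P : Subgroup G), ∃ z ∈ Subgroup.center G, c = y * z) ∧
      2 * (CP).relIndex NP + 1 = p := by
  have hpp : p.Prime := hp.out
  have hMp : M.IsPrime := isPModular_isPrime hM
  have hχc : IsCharacter G (χ : G → ℂ) := IsIrrCharacter.isCharacter χ.2
  have hdiv := dvd_card_of_card P hP
  have hsq := not_sq_dvd_of_card P hP
  have hdpos : 0 < charDegree (χ : G → ℂ) := IsIrrCharacter.charDegree_pos χ.2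
  have hdvd : ¬ p ∣ charDegree (χ : G → ℂ) := Nat.not_dvd_of_pos_of_lt hdpos (by omega)
  have hd := (not_dvd_iff_pos_defect hM hdiv hsq χ).mp hdvd
  have hdne1 : charDegree (χ : G → ℂ) ≠ 1 := by
    intro h
    omega
  obtain ⟨-, b, θ₀, hind, hθ₀b, hθ₀P⟩ :=
    Cfsg.Agent.Lib.Helper75.DefOneGen.exists_root hM P hP (isPBlock_blockOf χ) hd
  have hb : b = blockOf M (θ₀ : ↥CP → ℂ) := IsPBlock_eq_blockOf hind.1 hθ₀b
  rw [hb] at hind
  have hθ₀ : θ₀ ∈ Theta P := (mem_Theta P θ₀).mpr hθ₀P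
  have hχB : χ ∈ blockOf M (χ : G → ℂ) := self_mem_blockOf hMp.ne_top χ
  -- the nonexceptional case
  have hX : ∀ a : ℤ, (a = 1 ∨ a = -1) → (∀ y : G, y ∈ (P : Subgroup G) → y ≠ 1 →
      fpart p CP (χ : G → ℂ) (θ₀ : ↥CP → ℂ) y = (a : ℂ)) → False := by
    intro a ha hfa
    have hfp := fpart_of_root_const P hP hM θ₀ hθ₀ hind hχB (a : ℂ) hfa
    have hconst := const_of_xtype_le P hP hχc hdeg.le θ₀ hθ₀ a ha hfp
    exact hdne1 (charDegree_eq_one_of_const (hH χ hconst))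
  rcases blk_data P hP hM θ₀ hθ₀P hind with hall | ⟨he, δ, Y, ζ, hδ, hYB, hXY, hζY, hYsurj,
    hiff, hform, hdegY⟩
  · obtain ⟨a, ha, hfa⟩ := hall χ hχB
    exact (hX a ha hfa).elim
  by_cases hχY : χ ∈ Y
  swap
  · obtain ⟨a, ha, hfa⟩ := hXY χ hχB hχY
    exact (hX a ha hfa).elim
  -- the exceptional case
  obtain ⟨hδ1, hD⟩ := dval_le P hP hM θ₀ hθ₀ hind he δ hδ Y ζ hYB hYsurj hiff hform hdegY χ hχY
    hdeg.le
  obtain ⟨ψ₀, hψ₀, hζψ₀⟩ := hYsurj χ hχY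
  have hform1 : ∀ ψ : ↥(P : Subgroup G) →* ℂˣ, ψ ≠ 1 → ∀ y : ↥(P : Subgroup G), y ≠ 1 →
      fpart p CP (ζ ψ : G → ℂ) (θ₀ : ↥CP → ℂ) (y : G) =
        ∑ᶠ ψ' ∈ {ψ' : ↥(P : Subgroup G) →* ℂˣ | ∃ n : G, n ∈ thetaStab P θ₀ ∧
          ∀ w w' : ↥(P : Subgroup G), (w' : G) = n * (w : G) * n⁻¹ → ψ' w' = ψ w},
          ((ψ' y : ℂˣ) : ℂ) := by
    intro ψ hψ y hy
    rw [hform ψ hψ y hy, hδ1]
    simp
  obtain ⟨S, hχS, hScard, hOcard, hfpS⟩ :=
    ssum P hP hM θ₀ hθ₀ hind Y ζ hYB hζY hiff hform1 hD ψ₀ hψ₀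
  have hFchar : IsCharacter G (∑ η ∈ S, (η : G → ℂ)) :=
    Cfsg.Agent.Lib.Helper80.isCharacter_sum S _ (fun η _ => IsIrrCharacter.isCharacter η.2)
  have hFclass : IsClassFunction G (∑ η ∈ S, (η : G → ℂ)) := IsCharacter.isClassFunction hFchar
  obtain ⟨w, hwge, hw1, hLf⟩ := Lf_mul_conj_strong P hP θ₀ hθ₀ hFclass (etaN P ψ₀) hfpS
  have hΓ : IsCharacter G (fun g => (∑ η ∈ S, (η : G → ℂ)) g *
      conj ((∑ η ∈ S, (η : G → ℂ)) g)) :=
    Cfsg.Agent.Lib.Helper80.isCharacter_mul hFchar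
      (Cfsg.Agent.Lib.Helper80.isCharacter_conj hFchar)
  have hirr : ∀ Ξ : IrrCharacter G, (Ξ : G → ℂ) ≠ (fun _ : G => (1 : ℂ)) →
      ∃ r : ℝ, 0 ≤ r ∧ Lf P (Ξ : G → ℂ) = (r : ℂ) := by
    intro Ξ hne
    rcases Lf_irr_nonneg_or_const P hP hM Ξ with h | h
    · exact h
    · exact absurd (funext (hH Ξ h)) hne
  obtain ⟨r, hr, hLr⟩ := Lf_char_ge P hP hirr (Lf_one P hP) hΓ S.card
    (classInner_sum_mul_conj_one S)
  -- the values of `etaN`
  have hE1 := etaN_one P hP hψ₀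
  have hEsum := sum_etaN_normSq P hP hψ₀
  have hEne : ∑ y ∈ Finset.univ.filter (fun y : ↥(P : Subgroup G) => y ≠ 1),
      etaN P ψ₀ y * conj (etaN P ψ₀ y) =
      (p : ℂ) * ((CP).relIndex NP : ℂ) - ((CP).relIndex NP : ℂ) * ((CP).relIndex NP : ℂ) := by
    have h1 := Finset.sum_filter_add_sum_filter_not Finset.univ
      (fun y : ↥(P : Subgroup G) => y = 1) (fun y => etaN P ψ₀ y * conj (etaN P ψ₀ y))
    rw [hEsum, Finset.filter_eq' Finset.univ (1 : ↥(P : Subgroup G)),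
      if_pos (Finset.mem_univ _), Finset.sum_singleton, hE1] at h1
    have h2 : (starRingEnd ℂ) ((CP).relIndex NP : ℂ) = ((CP).relIndex NP : ℂ) := by
      simp
    rw [h2] at h1
    linear_combination h1
  rw [hLr, hE1, hEne] at hLf
  have h2 : (starRingEnd ℂ) ((CP).relIndex NP : ℂ) = ((CP).relIndex NP : ℂ) := by
    simp
  rw [h2] at hLf
  have hreal : r = (w : ℝ) * (((p : ℝ) - 1) * (((CP).relIndex NP : ℝ) * ((CP).relIndex NP : ℝ)) -
      ((p : ℝ) + 1) * ((p : ℝ) * ((CP).relIndex NP : ℝ) -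
        ((CP).relIndex NP : ℝ) * ((CP).relIndex NP : ℝ))) := by
    apply Complex.ofReal_injective
    rw [hLf]
    push_cast
    ring
  rw [hreal] at hr
  -- the degree of `χ`
  have hdegχ : charDegree (χ : G → ℂ) = ∑ θ' ∈ Theta P,
      Dn P (χ : G → ℂ) (θ' : ↥CP → ℂ) * charDegree (θ' : ↥CP → ℂ) :=
    charDegree_eq_sum_Dn P hP hχc
  have hdegχ' : charDegree (χ : G → ℂ) =
      ∑ θ' ∈ (Theta P).filter (fun θ' => θ' ∈ MulAction.orbit ↥NP θ₀),
        (CP).relIndex (thetaStab P θ₀) * charDegree (θ' : ↥CP → ℂ) := by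
    rw [hdegχ, Finset.sum_filter]
    apply Finset.sum_congr rfl
    intro θ' hθ'
    rw [hD χ hχY θ' hθ']
    split_ifs <;> simp
  have hfpos : 0 < (CP).relIndex NP := by
    apply Nat.pos_of_ne_zero
    unfold Subgroup.relIndex
    exact Subgroup.index_ne_zero_of_finite
  have hepos : 0 < (CP).relIndex (thetaStab P θ₀) := by
    apply Nat.pos_of_ne_zero
    unfold Subgroup.relIndex
    exact Subgroup.index_ne_zero_of_finite
  have hθ₀orb : θ₀ ∈ (Theta P).filter (fun θ' => θ' ∈ MulAction.orbit ↥NP θ₀) := by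
    rw [Finset.mem_filter]
    exact ⟨hθ₀, MulAction.mem_orbit_self θ₀⟩
  have hkpos : 0 < ((Theta P).filter (fun θ' => θ' ∈ MulAction.orbit ↥NP θ₀)).card :=
    Finset.card_pos.mpr ⟨θ₀, hθ₀orb⟩
  have hfle : (CP).relIndex NP ≤ charDegree (χ : G → ℂ) := by
    rw [hdegχ', ← hOcard, ← smul_eq_mul, ← Finset.sum_const]
    apply Finset.sum_le_sum
    intro θ' _
    have : 0 < charDegree (θ' : ↥CP → ℂ) := IsIrrCharacter.charDegree_pos θ'.2
    nlinarith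
  -- the orbit is `{θ₀}` and `θ₀` is linear, in both cases
  have hkey : 2 * (CP).relIndex NP + 1 = p ∧
      ((Theta P).filter (fun θ' => θ' ∈ MulAction.orbit ↥NP θ₀)).card = 1 ∧
        (θ₀ : ↥CP → ℂ) 1 = 1 := by
    rcases arith_core_eq hfpos hepos hkpos hScard hOcard hwge
      (by omega : 2 * (CP).relIndex NP + 1 ≤ p) hr with ⟨hf1, hwle⟩ | ⟨hfe, hwle⟩
    · exfalso
      have hk1' : ((Theta P).filter (fun θ' => θ' ∈ MulAction.orbit ↥NP θ₀)).card = 1 := by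
        rw [hf1] at hOcard
        exact Nat.eq_one_of_mul_eq_one_right hOcard
      have he1 : (CP).relIndex (thetaStab P θ₀) = 1 := by
        rw [hf1] at hOcard
        exact Nat.eq_one_of_mul_eq_one_left hOcard
      have hθ1 := (hw1 (by rw [hf1, hk1']; exact hwle)).2
      obtain ⟨θ₁, hθ₁⟩ := Finset.card_eq_one.mp hk1'
      have hθ₁eq : θ₁ = θ₀ := by
        rw [hθ₁, Finset.mem_singleton] at hθ₀orb
        exact hθ₀orb.symm
      apply hdne1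
      rw [hdegχ', hθ₁, Finset.sum_singleton, hθ₁eq, he1, one_mul]
      have h3 : ((charDegree (θ₀ : ↥CP → ℂ) : ℕ) : ℂ) = ((1 : ℕ) : ℂ) := by
        rw [← IsCharacter.apply_one_eq_charDegree (IsIrrCharacter.isCharacter θ₀.2), hθ1]
        simp
      exact_mod_cast h3
    · exact ⟨hfe, hw1 hwle⟩
  obtain ⟨hfe, hk1, hθ1⟩ := hkey
  refine ⟨?_, hfe⟩
  -- the structure of `C_G(P)`
  obtain ⟨θ₁, hθ₁⟩ := Finset.card_eq_one.mp hk1
  have hθ₁eq : θ₁ = θ₀ := by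
    rw [hθ₁, Finset.mem_singleton] at hθ₀orb
    exact hθ₀orb.symm
  rw [hθ₁eq] at hθ₁
  have hθ₀c : IsCharacter ↥CP (θ₀ : ↥CP → ℂ) := IsIrrCharacter.isCharacter θ₀.2
  have hθ₀deg : charDegree (θ₀ : ↥CP → ℂ) = 1 := by
    have h3 : ((charDegree (θ₀ : ↥CP → ℂ) : ℕ) : ℂ) = ((1 : ℕ) : ℂ) := by
      rw [← IsCharacter.apply_one_eq_charDegree hθ₀c, hθ1]
      simp
    exact_mod_cast h3
  have hχ1 : (χ : G → ℂ) 1 = ((CP).relIndex (thetaStab P θ₀) : ℂ) := by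
    rw [IsCharacter.apply_one_eq_charDegree hχc, hdegχ', hθ₁, Finset.sum_singleton, hθ₀deg,
      mul_one]
  obtain ⟨φ, hφ⟩ := Cfsg.Agent.Lib.Helper77.exists_monoidHom_of_degree_one hθ₀c hθ1
  have hsp := ppart_spec P hP
  have hcf : IsClassFunction G (χ : G → ℂ) := IsCharacter.isClassFunction hχc
  intro c hc
  set c' : ↥CP := ⟨c, hc⟩ with hc'
  set y : ↥(P : Subgroup G) := ppart P hP c' with hy
  set s : ↥CP := (Subgroup.inclusion (le_centralizer_of_card_prime hP) y)⁻¹ * c' with hs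
  have hπs : ppart P hP s = 1 := by
    rw [hs, map_mul, map_inv, hsp.right_inv, inv_mul_cancel]
  have hsreg : ¬ p ∣ orderOf s := (hsp.ker_iff s).mp hπs
  -- the value of `χ` at `s`
  have hval : (χ : G → ℂ) (s : G) =
      ((CP).relIndex (thetaStab P θ₀) : ℂ) * (θ₀ : ↥CP → ℂ) s := by
    have h1 := apply_eq_sum_fpart P hP hcf (1 : ↥(P : Subgroup G)) s hsreg
    rw [← Theta_eq_filter P hP, OneMemClass.coe_one, one_mul] at h1
    rw [h1]
    have h2 : ∀ θ' ∈ Theta P, fpart p CP (χ : G → ℂ) (θ' : ↥CP → ℂ) 1 * (θ' : ↥CP → ℂ) s =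
        if θ' ∈ MulAction.orbit ↥NP θ₀ then
          ((CP).relIndex (thetaStab P θ₀) : ℂ) * (θ' : ↥CP → ℂ) s else 0 := by
      intro θ' hθ'
      rw [Dn_spec P hP hχc θ' hθ', hD χ hχY θ' hθ']
      split_ifs <;> simp
    rw [Finset.sum_congr rfl h2, ← Finset.sum_filter, hθ₁, Finset.sum_singleton]
  have hnorm1 : ‖(θ₀ : ↥CP → ℂ) s‖ = 1 := by
    rw [hφ s]
    have hpow : (((φ s : ℂˣ) : ℂ)) ^ orderOf s = 1 := by
      rw [← Units.val_pow_eq_pow_val, ← map_pow, pow_orderOf_eq_one, map_one, Units.val_one]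
    exact Complex.norm_eq_one_of_pow_eq_one hpow (orderOf_pos s).ne'
  have hnorm : ‖(χ : G → ℂ) (s : G)‖ = ‖(χ : G → ℂ) 1‖ := by
    rw [hval, hχ1, norm_mul, hnorm1, mul_one]
  have hscen : (s : G) ∈ Subgroup.center G :=
    Cfsg.Agent.Lib.Helper80GP.mem_center_of_norm_eq χ.2 hfaith hnorm
  refine ⟨(y : G), y.2, (s : G), hscen, ?_⟩
  have h3 : c' = Subgroup.inclusion (le_centralizer_of_card_prime hP) y * s := by
    rw [hs, mul_inv_cancel_left]
  have h4 := congrArg (fun x : ↥CP => (x : G)) h3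
  simpa using h4

end MainLemma

/-- **[A-EQ]** the equality case of Brauer's main lemma. -/
theorem main_lemma_eq {G : Type u} [Group G] [Finite G] {p : ℕ} (hp : p.Prime) (hp5 : 5 ≤ p)
    (Q : Sylow p G) (hQ : Nat.card Q = p)
    (hH : ∀ Ξ : IrrCharacter G,
      (∀ y : G, y ∈ (Q : Subgroup G) → (Ξ : G → ℂ) y = (Ξ : G → ℂ) 1) →
        ∀ g : G, (Ξ : G → ℂ) g = 1)
    (Ξ : IrrCharacter G) (hdeg : 2 * charDegree (Ξ : G → ℂ) + 1 = p)
    (hfaith : ∀ g : G, (Ξ : G → ℂ) g = (Ξ : G → ℂ) 1 → g = 1) :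
    (∀ c ∈ Subgroup.centralizer ((Q : Subgroup G) : Set G),
        ∃ y ∈ (Q : Subgroup G), ∃ z ∈ Subgroup.center G, c = y * z) ∧
      2 * (Subgroup.centralizer ((Q : Subgroup G) : Set G)).relIndex
        (Subgroup.normalizer ((Q : Subgroup G) : Set G)) + 1 = p := by
  have : Fact p.Prime := ⟨hp⟩
  have hfinG : Fintype G := Fintype.ofFinite G
  have hfinC : Fintype ↥(Subgroup.centralizer ((Q : Subgroup G) : Set G)) := Fintype.ofFinite _
  have hfinP : Fintype ↥(Q : Subgroup G) := Fintype.ofFinite _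
  have hfinN : Fintype ↥(Subgroup.normalizer ((Q : Subgroup G) : Set G)) := Fintype.ofFinite _
  have hcyc : IsCyclic ↥(Q : Subgroup G) := isCyclic_of_prime_card hQ
  have hab : IsMulCommutative ↥(Q : Subgroup G) := IsCyclic.isMulCommutative
  have hfinD : Fintype (↥(Q : Subgroup G) →* ℂˣ) := Fintype.ofFinite _
  obtain ⟨M, hM⟩ := Cfsg.Agent.Lib.Helper75.exists_isPModular p hp
  exact main_lemma_eq_aux Q hQ hM hp5 hH Ξ hdeg hfaith

end Cfsg.Agent.Lib.Helper75.S4504
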