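import Mathlib
import Cfsg.Prelude.Def_Blocks
import Cfsg.Prelude.Def_Classical
import Cfsg.Agent.Lib.Helper92.S4504.CIrr
import Cfsg.Agent.Lib.Helper65.S4504.CK
import Cfsg.Agent.Lib.Helper65.S4504.CNab
import Cfsg.Agent.Lib.Helper50.S4504.CNoIdx
import Cfsg.Agent.Lib.Helper50.S4504.CSylBridge
import Cfsg.Agent.Lib.Helper66.S4504.CPerm
import Cfsg.Agent.Lib.Helper66.S4504.CSchur
import Cfsg.Agent.Lib.Helper51.S4504.BRed
import Cfsg.Agent.Lib.Helper75.S4504.MainLemmaEq
import Cfsg.Agent.Lib.Helper77.Linear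

set_option autoImplicit false

/-!
# S4504 module [C-FINISH] (helper75): the group-theoretic assembly

`finish`: from Theorem B (the modular part), [C-FULLAUT] and [C-SYLCOUNT] (taken as hypotheses with
the exact statements of the sheet `Lib/Helper79/S4504/SPINE4504.md`) and the landed modules of
parts A and C, the statement S4504 follows by induction on `|G|`.
-/

namespace Cfsg.Agent.Lib.Helper75.S4504

open Cfsg

universe u

local notation "PSL2p" p => Matrix.ProjectiveSpecialLinearGroup (Fin 2) (ZMod p)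

/-- The statement of Theorem B of the sheet. -/
def ThmBStatement : Prop :=
  ∀ {G : Type u} [Group G] [Finite G] {p : ℕ} (_ : p.Prime) (_ : 5 ≤ p)
    (P : Sylow p G) (_ : Nat.card P = p)
    (_ : Subgroup.normalClosure ((P : Subgroup G) : Set G) = ⊤)
    (_ : ∀ a b : G, a ∈ Subgroup.normalizer ((P : Subgroup G) : Set G) →
      b ∈ Subgroup.normalizer ((P : Subgroup G) : Set G) → a * b * a⁻¹ * b⁻¹ ∈ (P : Subgroup G))
    (_ : ∀ K : Subgroup G, K.Normal → K.index ≠ p)
    {F : Type} [Field F] [IsAlgClosed F] [CharP F p]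
    (_ : ∀ a : F, ∃ n : ℕ, 0 < n ∧ a ^ (p ^ n) = a)
    {d : ℕ} (_ : 2 * d + 1 ≤ p) (τ : G →* Matrix (Fin d) (Fin d) F)
    (_ : Function.Injective τ),
    ∃ (K : Subgroup G) (_ : K.Normal), ¬ p ∣ Nat.card K ∧ Nonempty (G ⧸ K ≃* PSL2p p)

/-- The statement of [C-FULLAUT] of the sheet. -/
def FullAutStatement : Prop :=
  ∀ {G : Type u} [Group G] [Finite G] {p : ℕ} (_ : p.Prime) (_ : 5 ≤ p)
    (P : Sylow p G) (_ : Nat.card P = p)
    (χ : G → ℂ) (_ : IsCharacter G χ) (_ : ∀ g : G, χ g = χ 1 → g = 1)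
    (_ : 2 * charDegree χ + 1 = p)
    (L : Subgroup G)
    (_ : 2 * (Subgroup.centralizer ((P : Subgroup G) : Set G) ⊓ L).relIndex
      (Subgroup.normalizer ((P : Subgroup G) : Set G) ⊓ L) + 1 = p),
    Subgroup.normalizer ((P : Subgroup G) : Set G) =
      (Subgroup.normalizer ((P : Subgroup G) : Set G) ⊓ L) ⊔
        Subgroup.centralizer ((P : Subgroup G) : Set G)

/-- The statement of [C-SYLCOUNT] of the sheet. -/
def SylCountStatement : Prop :=
  ∀ {L : Type u} [Group L] [Finite L] {p : ℕ} [Fact p.Prime] (_ : 5 ≤ p)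
    (P : Sylow p L) (_ : Nat.card P = p)
    (_ : L ⧸ Subgroup.center L ≃* PSL2p p),
    Nat.card (Sylow p L) = p + 1

section Bridges

variable {G : Type u} [Group G]

/-- The centralizer in `L` of `P ∩ L`, for `P ≤ L`. -/
theorem centralizer_subgroupOf_eq (P L : Subgroup G) (hPL : P ≤ L) :
    Subgroup.centralizer ((P.subgroupOf L : Subgroup L) : Set L) =
      (Subgroup.centralizer (P : Set G) ⊓ L).subgroupOf L := by
  ext x
  rw [Subgroup.mem_subgroupOf, Subgroup.mem_inf, Subgroup.mem_centralizer_iff,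
    Subgroup.mem_centralizer_iff]
  constructor
  · intro h
    refine ⟨fun g hg => ?_, x.2⟩
    have := h ⟨g, hPL hg⟩ (by
      show (⟨g, hPL hg⟩ : L) ∈ P.subgroupOf L
      rw [Subgroup.mem_subgroupOf]
      exact hg)
    exact congrArg Subtype.val this
  · rintro ⟨h, -⟩ y hy
    have hy' : (y : G) ∈ P := Subgroup.mem_subgroupOf.mp hy
    exact Subtype.ext (h (y : G) hy')

/-- The normalizer in `L` of `P ∩ L`, for `P ≤ L`. -/
theorem normalizer_subgroupOf_eq (P L : Subgroup G) (hPL : P ≤ L) :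
    Subgroup.normalizer ((P.subgroupOf L : Subgroup L) : Set L) =
      (Subgroup.normalizer (P : Set G) ⊓ L).subgroupOf L := by
  ext x
  rw [Subgroup.mem_subgroupOf, Subgroup.mem_inf, Subgroup.mem_normalizer_iff,
    Subgroup.mem_normalizer_iff]
  constructor
  · intro h
    refine ⟨fun g => ?_, x.2⟩
    by_cases hg : g ∈ L
    · have := h ⟨g, hg⟩
      rw [Subgroup.mem_subgroupOf, Subgroup.mem_subgroupOf] at this
      exact this
    · constructor
      · intro hgP
        exact absurd (hPL hgP) hg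
      · intro hgP
        exfalso
        apply hg
        have h1 : (x : G) * g * (x : G)⁻¹ ∈ L := hPL hgP
        have h2 : g = (x : G)⁻¹ * ((x : G) * g * (x : G)⁻¹) * (x : G) := by group
        rw [h2]
        exact L.mul_mem (L.mul_mem (L.inv_mem x.2) h1) x.2
  · rintro ⟨h, -⟩ y
    rw [Subgroup.mem_subgroupOf, Subgroup.mem_subgroupOf]
    exact h (y : G)

/-- Transfer of the relative index `|N_L(Q) : C_L(Q)|` to `G`. -/
theorem relIndex_bridge (P L : Subgroup G) (hPL : P ≤ L) :
    (Subgroup.centralizer ((P.subgroupOf L : Subgroup L) : Set L)).relIndex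
      (Subgroup.normalizer ((P.subgroupOf L : Subgroup L) : Set L)) =
    (Subgroup.centralizer (P : Set G) ⊓ L).relIndex (Subgroup.normalizer (P : Set G) ⊓ L) := by
  rw [centralizer_subgroupOf_eq P L hPL, normalizer_subgroupOf_eq P L hPL]
  exact Subgroup.relIndex_subgroupOf inf_le_right

end Bridges

section Steps

variable {G : Type u} [Group G] [Finite G]

/-- A faithful character of degree one forces every subgroup to be normal. -/
theorem normal_of_faithful_linear (χ : G → ℂ) (hχ : IsCharacter G χ)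
    (hfaith : ∀ g : G, χ g = χ 1 → g = 1) (h1 : χ 1 = 1) (H : Subgroup G) : H.Normal := by
  obtain ⟨φ, hφ⟩ := Cfsg.Agent.Lib.Helper77.exists_monoidHom_of_degree_one hχ h1
  have hinj : Function.Injective φ := by
    rw [injective_iff_map_eq_one]
    intro g hg
    apply hfaith
    rw [hφ g, hg, h1]
    rfl
  have hcomm : ∀ a b : G, a * b = b * a := by
    intro a b
    apply hinj
    rw [map_mul, map_mul, mul_comm]
  constructor
  intro n hn g
  rw [hcomm g n, mul_inv_cancel_right]
  exact hn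

/-- A Sylow `p`-subgroup has order `p` when `p ∥ |G|`. -/
theorem card_sylow_of_exact {p : ℕ} [Fact p.Prime] (hdiv : p ∣ Nat.card G)
    (hsq : ¬ p ^ 2 ∣ Nat.card G) (P : Sylow p G) : Nat.card P = p := by
  have h1 := P.card_eq_multiplicity
  have hne : Nat.card G ≠ 0 := Nat.card_pos.ne'
  have h2 : (Nat.card G).factorization p = 1 := by
    have hpp : p.Prime := Fact.out
    have hge : 1 ≤ (Nat.card G).factorization p :=
      (hpp.dvd_iff_one_le_factorization hne).mp hdiv
    have hlt : ¬ 2 ≤ (Nat.card G).factorization p := by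
      intro h
      exact hsq ((hpp.pow_dvd_iff_le_factorization hne).mpr h)
    omega
  rw [h1, h2, pow_one]

/-- The prime is at least `5`. -/
theorem five_le_of_hyp (p : ℕ) (hp : p.Prime) (hdiv : p ∣ Nat.card G)
    (hsq : ¬ p ^ 2 ∣ Nat.card G) (hnn : ∀ H : Subgroup G, H.Normal → Nat.card H ≠ p)
    (χ : G → ℂ) (hχ : IsCharacter G χ) (hfaith : ∀ g : G, χ g = χ 1 → g = 1)
    (hdeg : 2 * charDegree χ + 1 = p) : 5 ≤ p := by
  have : Fact p.Prime := ⟨hp⟩
  by_contra hlt
  have hp2 : p ≠ 2 := by omega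
  have hp4 : p ≠ 4 := by
    rintro rfl
    norm_num at hp
  have hp3 : p = 3 := by
    have := hp.two_le
    omega
  have hd1 : charDegree χ = 1 := by omega
  have h1 : χ 1 = 1 := by
    rw [Cfsg.Agent.Lib.Helper78.IsCharacter.apply_one_eq_charDegree hχ, hd1, Nat.cast_one]
  obtain ⟨P⟩ : Nonempty (Sylow p G) := inferInstance
  exact hnn (P : Subgroup G) (normal_of_faithful_linear χ hχ hfaith h1 _)
    (card_sylow_of_exact hdiv hsq P)

end Steps

section Main

/-- no nontrivial normal `p`-subgroup in `L = O^{p'}(G)` -/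
theorem hOp_of_hyp {G : Type u} [Group G] [Finite G] {p : ℕ} [Fact p.Prime]
    (hnn : ∀ H : Subgroup G, H.Normal → Nat.card H ≠ p)
    (L : Subgroup G) [L.Normal] (Q : Sylow p L) (hQ : Nat.card Q = p)
    (hgen : Subgroup.normalClosure ((Q : Subgroup L) : Set L) = ⊤) :
    ∀ H : Subgroup L, H.Normal → IsPGroup p H → H = ⊥ := by
  intro H hHn hHp
  by_contra hne
  -- `H ≤ Q`
  have hsup : IsPGroup p ↥(H ⊔ (Q : Subgroup L)) := IsPGroup.to_sup_of_normal_left hHp Q.2
  have hle : H ≤ (Q : Subgroup L) := by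
    have := Q.is_maximal' hsup le_sup_right
    rw [← this]
    exact le_sup_left
  have hcard : Nat.card H = p := by
    have hdvd : Nat.card H ∣ p := by
      rw [← hQ]
      exact Subgroup.card_dvd_of_le hle
    have hpp : p.Prime := Fact.out
    rcases (Nat.dvd_prime hpp).mp hdvd with h1 | h1
    · exact absurd (Subgroup.card_eq_one.mp h1) hne
    · exact h1
  have hHQ : H = (Q : Subgroup L) := by
    apply Subgroup.eq_of_le_of_card_ge hle
    rw [hcard]
    exact hQ.le
  have hQn : (Q : Subgroup L).Normal := hHQ ▸ hHn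
  have htop : (Q : Subgroup L) = ⊤ := by
    rw [← hgen]
    exact (Subgroup.normalClosure_eq_self (Q : Subgroup L)).symm
  have hL : Nat.card L = p := by
    rw [← hQ, htop]
    exact (Subgroup.card_top).symm
  exact hnn L inferInstance hL

end Main

section Iso

/-- `G = L C_G(L)` with `C_G(L) ≤ Z(G)` gives `L / Z(L) ≃ G / Z(G)`. -/
theorem quotient_center_equiv {G : Type u} [Group G] (L : Subgroup G) [L.Normal]
    (hsup : L ⊔ Subgroup.centralizer (L : Set G) = ⊤)
    (hcen : Subgroup.centralizer (L : Set G) ≤ Subgroup.center G) :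
    Nonempty (L ⧸ Subgroup.center L ≃* G ⧸ Subgroup.center G) := by
  have hdec : ∀ g : G, ∃ y ∈ L, ∃ z ∈ Subgroup.centralizer (L : Set G), y * z = g := by
    intro g
    have hg : g ∈ L ⊔ Subgroup.centralizer (L : Set G) := by
      rw [hsup]
      exact Subgroup.mem_top g
    exact Subgroup.mem_sup_of_normal_left.mp hg
  let φ : L →* G ⧸ Subgroup.center G := (QuotientGroup.mk' (Subgroup.center G)).comp L.subtype
  have hφ : Function.Surjective φ := by
    intro q
    obtain ⟨g, rfl⟩ := QuotientGroup.mk_surjective q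
    obtain ⟨y, hy, z, hz, rfl⟩ := hdec g
    refine ⟨⟨y, hy⟩, ?_⟩
    show ((y : G) : G ⧸ Subgroup.center G) = ((y * z : G) : G ⧸ Subgroup.center G)
    rw [QuotientGroup.eq]
    have : y⁻¹ * (y * z) = z := by group
    rw [this]
    exact hcen hz
  have hker : Subgroup.center L = φ.ker := by
    ext l
    rw [MonoidHom.mem_ker]
    show l ∈ Subgroup.center L ↔ ((l : G) : G ⧸ Subgroup.center G) = 1
    rw [QuotientGroup.eq_one_iff, Subgroup.mem_center_iff, Subgroup.mem_center_iff]
    constructor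
    · intro h g
      obtain ⟨y, hy, z, hz, rfl⟩ := hdec g
      have h1 : y * (l : G) = (l : G) * y := congrArg Subtype.val (h ⟨y, hy⟩)
      have h2 : (l : G) * z = z * (l : G) := (Subgroup.mem_centralizer_iff.mp hz) (l : G) l.2
      calc y * z * (l : G) = y * (z * (l : G)) := by group
        _ = y * ((l : G) * z) := by rw [h2]
        _ = (y * (l : G)) * z := by group
        _ = ((l : G) * y) * z := by rw [h1]
        _ = (l : G) * (y * z) := by group
    · intro h y
      exact Subtype.ext (h (y : G))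
  exact ⟨(QuotientGroup.quotientMulEquivOfEq hker).trans
    (QuotientGroup.quotientKerEquivOfSurjective φ hφ)⟩

end Iso

section Assembly

/-- One step of the induction. -/
theorem finish_step (hB : ThmBStatement.{u}) (hFA : FullAutStatement.{u})
    (hSC : SylCountStatement.{u})
    {G : Type u} [Group G] [Finite G] (p : ℕ) (hp : p.Prime)
    (IH : ∀ (Y : Type u) [Group Y] [Finite Y], Nat.card Y < Nat.card G → p ∣ Nat.card Y →
      ¬ p ^ 2 ∣ Nat.card Y → (∀ H : Subgroup Y, H.Normal → Nat.card H ≠ p) →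
      ∀ χ : Y → ℂ, IsCharacter Y χ → (∀ g : Y, χ g = χ 1 → g = 1) → 2 * charDegree χ + 1 = p →
        Nonempty (Y ⧸ Subgroup.center Y ≃* PSL2p p))
    (hdiv : p ∣ Nat.card G) (hsq : ¬ p ^ 2 ∣ Nat.card G)
    (hnn : ∀ H : Subgroup G, H.Normal → Nat.card H ≠ p) (χ : G → ℂ) (hχ : IsCharacter G χ)
    (hfaith : ∀ g : G, χ g = χ 1 → g = 1) (hdeg : 2 * charDegree χ + 1 = p) :
    Nonempty ((G ⧸ Subgroup.center G) ≃* PSL2p p) := by
  have hfact : Fact p.Prime := ⟨hp⟩
  have hp5 : 5 ≤ p := five_le_of_hyp p hp hdiv hsq hnn χ hχ hfaith hdeg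
  obtain ⟨P⟩ : Nonempty (Sylow p G) := inferInstance
  have hP : Nat.card P = p := card_sylow_of_exact hdiv hsq P
  -- the normal closure
  obtain ⟨L, hL⟩ : ∃ L : Subgroup G, L = Subgroup.normalClosure ((P : Subgroup G) : Set G) :=
    ⟨_, rfl⟩
  have hLn : L.Normal := by
    rw [hL]
    exact Subgroup.normalClosure_normal
  have hPL : (P : Subgroup G) ≤ L := by
    rw [hL]
    exact Subgroup.le_normalClosure
  obtain ⟨hirr, hgenAll, hHAll⟩ :=
    Cfsg.Agent.Lib.Helper92.S4504.restrict_normalClosure_irr hp P hP hnn χ hχ hfaith hdeg L hL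
  -- the Sylow subgroup of `L`
  let Q : Sylow p L := P.subtype hPL
  have hQcoe : (Q : Subgroup L) = (P : Subgroup G).subgroupOf L := Sylow.coe_subtype P hPL
  have hQ : Nat.card Q = p := Cfsg.Agent.Lib.Helper92.S4504.cIrr_card_sylow P hP L hPL Q
  have hgen := hgenAll Q
  -- the restricted character
  have hζ : IsCharacter L (fun h : L => χ h) :=
    Cfsg.Agent.Lib.Helper78.IsIrrCharacter.isCharacter hirr
  have hζfaith : ∀ g : L, (fun h : L => χ h) g = (fun h : L => χ h) 1 → g = 1 := by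
    intro g hg
    apply Subtype.ext
    exact hfaith (g : G) hg
  have hζdeg : 2 * charDegree (fun h : L => χ h) + 1 = p := by
    have : charDegree (fun h : L => χ h) = charDegree χ := by
      unfold charDegree
      rfl
    rw [this]
    exact hdeg
  -- part A
  obtain ⟨hA1, hA2⟩ := main_lemma_eq hp hp5 Q hQ (hHAll Q) ⟨_, hirr⟩ hζdeg hζfaith
  have hNab := Cfsg.Agent.Lib.Helper65.S4504.normalizer_mod_abelian Q hQ hA1
  have hNC : Subgroup.centralizer ((Q : Subgroup L) : Set L) ≠
      Subgroup.normalizer ((Q : Subgroup L) : Set L) := by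
    intro h
    rw [h, Subgroup.relIndex_self] at hA2
    omega
  have hidx := Cfsg.Agent.Lib.Helper50.S4504.no_normal_index_p Q hQ hNC
  -- part B
  have hOp := hOp_of_hyp hnn L Q hQ hgen
  obtain ⟨F, hF1, hF2, hF3, halg, τ, hτ⟩ :=
    Cfsg.Agent.Lib.Helper51.S4504.exists_faithful_modular hp hOp hirr hζfaith
  obtain ⟨K, hKn, hKp, ⟨e⟩⟩ := hB hp hp5 Q hQ hgen hNab hidx halg hζdeg.le τ hτ
  -- the kernel is the centre
  have hIH : ∀ (Y : Type u) [Group Y] [Finite Y], Nat.card Y < Nat.card L → p ∣ Nat.card Y →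
      ¬ p ^ 2 ∣ Nat.card Y → (∀ H : Subgroup Y, H.Normal → Nat.card H ≠ p) →
      ∀ χ : Y → ℂ, IsCharacter Y χ → (∀ g : Y, χ g = χ 1 → g = 1) → 2 * charDegree χ + 1 = p →
        Nonempty (Y ⧸ Subgroup.center Y ≃* PSL2p p) := by
    intro Y _ _ hY
    exact IH Y (lt_of_lt_of_le hY (Subgroup.card_le_card_group L))
  have hKc : K = Subgroup.center L :=
    Cfsg.Agent.Lib.Helper65.S4504.kernel_eq_center hp hp5 hIH Q hQ hgen _ hζ hζfaith hζdeg K hKp e
  subst hKc
  -- the number of Sylow subgroups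
  have hnL : Nat.card (Sylow p L) = p + 1 := hSC hp5 Q hQ e
  have hnG : Nat.card (Sylow p G) = p + 1 := by
    rw [Cfsg.Agent.Lib.Helper50.S4504.card_sylow_eq_of_normal P L hPL, hnL]
  -- the normalizer
  have hA2' : 2 * (Subgroup.centralizer ((P : Subgroup G) : Set G) ⊓ L).relIndex
      (Subgroup.normalizer ((P : Subgroup G) : Set G) ⊓ L) + 1 = p := by
    rw [← relIndex_bridge (P : Subgroup G) L hPL, ← hQcoe]
    exact hA2
  have hNsup := hFA hp hp5 P hP χ hχ hfaith hdeg L hA2'
  have hsup := Cfsg.Agent.Lib.Helper66.S4504.eq_mul_centralizer P hP hnG L hL hNsup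
  have hcen := Cfsg.Agent.Lib.Helper66.S4504.centralizer_le_center χ hχ hfaith L hirr
  obtain ⟨f⟩ := quotient_center_equiv L hsup hcen
  exact ⟨f.symm.trans e⟩

/-- **[C-FINISH]** the statement S4504 from Theorem B, [C-FULLAUT] and [C-SYLCOUNT]. -/
theorem finish (hB : ThmBStatement.{u}) (hFA : FullAutStatement.{u})
    (hSC : SylCountStatement.{u})
    {G : Type u} [Group G] [Finite G] (p : ℕ) (hp : p.Prime)
    (hdiv : p ∣ Nat.card G) (hsq : ¬ p ^ 2 ∣ Nat.card G)
    (hnn : ∀ H : Subgroup G, H.Normal → Nat.card H ≠ p) (χ : G → ℂ) (hχ : IsCharacter G χ)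
    (hfaith : ∀ g : G, χ g = χ 1 → g = 1) (hdeg : 2 * charDegree χ + 1 = p) :
    Nonempty ((G ⧸ Subgroup.center G) ≃* PSL2p p) := by
  have key : ∀ n : ℕ, ∀ (Y : Type u) [Group Y] [Finite Y], Nat.card Y = n → p ∣ Nat.card Y →
      ¬ p ^ 2 ∣ Nat.card Y → (∀ H : Subgroup Y, H.Normal → Nat.card H ≠ p) →
      ∀ χ : Y → ℂ, IsCharacter Y χ → (∀ g : Y, χ g = χ 1 → g = 1) → 2 * charDegree χ + 1 = p →
        Nonempty (Y ⧸ Subgroup.center Y ≃* PSL2p p) := by
    intro n
    induction n using Nat.strong_induction_on with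
    | _ n ih =>
      intro Y _ _ hY hdivY hsqY hnnY χY hχY hfaithY hdegY
      apply finish_step hB hFA hSC p hp _ hdivY hsqY hnnY χY hχY hfaithY hdegY
      intro Z _ _ hZ
      exact ih (Nat.card Z) (hY ▸ hZ) Z rfl
  exact key (Nat.card G) G rfl hdiv hsq hnn χ hχ hfaith hdeg

end Assembly

end Cfsg.Agent.Lib.Helper75.S4504
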