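import Mathlib
import Cfsg.Agent.Lib.Helper75.S4504.Finish
import Cfsg.Agent.Lib.Helper66.S4504.CFullAut
import Cfsg.Agent.Lib.Helper65.S4504.CSylCount

set_option autoImplicit false

/-!
# S4504 module [C-FINISH], second part (helper75): only Theorem B is left as a hypothesis
-/

namespace Cfsg.Agent.Lib.Helper75.S4504

open Cfsg

universe u

local notation "PSL2p" p => Matrix.ProjectiveSpecialLinearGroup (Fin 2) (ZMod p)

theorem fullAutStatement : FullAutStatement.{u} := by
  intro G _ _ p hp hp5 P hP χ hχ hfaith hdeg L hA2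
  exact Cfsg.Agent.Lib.Helper66.S4504.normalizer_eq_sup hp hp5 P hP χ hχ hfaith hdeg L hA2

theorem sylCountStatement : SylCountStatement.{u} := by
  intro L _ _ p _ hp5 P hP e
  exact Cfsg.Agent.Lib.Helper65.S4504.card_sylow_of_psl hp5 P hP e

/-- **S4504 from Theorem B.** -/
theorem finish_of_thmB (hB : ThmBStatement.{u})
    {G : Type u} [Group G] [Finite G] (p : ℕ) (hp : p.Prime)
    (hdiv : p ∣ Nat.card G) (hsq : ¬ p ^ 2 ∣ Nat.card G)
    (hnn : ∀ H : Subgroup G, H.Normal → Nat.card H ≠ p) (χ : G → ℂ) (hχ : IsCharacter G χ)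
    (hfaith : ∀ g : G, χ g = χ 1 → g = 1) (hdeg : 2 * charDegree χ + 1 = p) :
    Nonempty ((G ⧸ Subgroup.center G) ≃* PSL2p p) :=
  finish hB fullAutStatement sylCountStatement p hp hdiv hsq hnn χ hχ hfaith hdeg

end Cfsg.Agent.Lib.Helper75.S4504
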